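import Mathlib
import Cfsg.Agent.Lib.Char.Orthogonality
import Cfsg.Agent.Lib.Char.Linear
import Cfsg.Agent.Lib.Char.Descend
import Cfsg.Agent.Lib.Char.Ito
import Cfsg.Agent.Lib.Char.PRegular
import Cfsg.Agent.Lib.Blocks.PrimePowerDegree
import Cfsg.Agent.Lib.CharInt.Kazarin
import Cfsg.Agent.Lib.PSL2.SylowAction

/-!
# `PSL₂(p²)` from the degrees of its irreducible characters

The characters of degree `q`, `q - 1`, `q + 1`, `(q + 1) / 2` have defect zero for so many primes
that column orthogonality forbids elements of order `p r`: the Sylow `p`-subgroups are TI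
centralisers and there are `q + 1` of them.
-/

set_option autoImplicit false
set_option linter.style.haveILetI false
set_option linter.unusedSectionVars false

namespace Cfsg.Agent.DegreeRecog

open MulAction Finset
open Cfsg

universe u

variable {G : Type u} [Group G] [Finite G] {p : ℕ} [Fact p.Prime]

theorem factorization_eq_of_mul {a b n r : ℕ} (ha : a ≠ 0) (hb : b ≠ 0) (hn : a * b = n)
    (hr : ¬ r ∣ b) : a.factorization r = n.factorization r := by
  subst hn
  rw [Nat.factorization_mul ha hb, Finsupp.add_apply, Nat.factorization_eq_zero_of_not_dvd hr,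
    add_zero]

/-- No element of order `p r` for a prime `r ≠ p`. -/
theorem no_mixed (hp2 : p ≠ 2) (hG : 2 * Nat.card G = p ^ 2 * ((p ^ 2) ^ 2 - 1))
    (hlin : ∀ χ : IrrCharacter G, Char.degree χ = 1 → χ = Char.trivialChar G)
    (hdeg : ∀ χ : IrrCharacter G, Char.degree χ = 1 ∨ Char.degree χ = p ^ 2 ∨
      Char.degree χ = p ^ 2 + 1 ∨ Char.degree χ = p ^ 2 - 1 ∨ Char.degree χ = (p ^ 2 + 1) / 2)
    {x y : G} (hx : orderOf x = p) {r : ℕ} [hr : Fact r.Prime] (hrp : r ≠ p) (hy : orderOf y = r)
    (hc : Commute x y) : False := by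
  classical
  letI := Fintype.ofFinite G
  have hp : p.Prime := Fact.out
  obtain ⟨j, hj⟩ := (hp.odd_of_ne_two hp2).pow (n := 2)
  have hq4 : p ^ 2 % 4 = 1 := by
    obtain ⟨i, rfl⟩ := hp.odd_of_ne_two hp2
    rw [show (2 * i + 1) ^ 2 = 4 * (i * i + i) + 1 by ring, Nat.add_mod, Nat.mul_mod_right]
  obtain ⟨q, hqdef⟩ : ∃ q, q = p ^ 2 := ⟨_, rfl⟩
  rw [← hqdef] at hG hdeg hj hq4
  have hp3 : 3 ≤ p := by have := hp.two_le; omega
  have hq9 : 9 ≤ q := by rw [hqdef]; exact le_trans (by norm_num) (Nat.pow_le_pow_left hp3 2)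
  have hsq : q ^ 2 - 1 = (q + 1) * (q - 1) := by rw [← Nat.sq_sub_sq, one_pow]
  rw [hsq] at hG
  -- `2 |G| = q (q + 1) (q - 1)`
  have hG' : Nat.card G = q * (j + 1) * (2 * j) := by
    apply Nat.eq_of_mul_eq_mul_left two_pos
    rw [hG, show q + 1 = 2 * (j + 1) by omega, show q - 1 = 2 * j by omega]; ring
  have hrG : r ∣ q * (j + 1) * (2 * j) := hG' ▸ hy ▸ orderOf_dvd_natCard y
  have hrq : ¬ r ∣ q := fun h => hrp ((Nat.prime_dvd_prime_iff_eq hr.out hp).1
    (hr.out.dvd_of_dvd_pow (hqdef ▸ h)))
  have hpj : ¬ p ∣ (j + 1) * (2 * j) := by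
    intro h
    have hpq : p ∣ q := hqdef ▸ dvd_pow_self p two_ne_zero
    rcases hp.dvd_mul.1 h with h1 | h1
    · have h2 : p ∣ q + 1 := by rw [show q + 1 = 2 * (j + 1) by omega]; exact h1.mul_left 2
      exact hp.not_dvd_one ((Nat.dvd_add_right hpq).1 h2)
    · have h2 : p ∣ q - 1 := by rw [show q - 1 = 2 * j by omega]; exact h1
      have h3 := Nat.dvd_sub hpq h2
      rw [show q - (q - 1) = 1 by omega] at h3
      exact hp.not_dvd_one h3
  obtain ⟨Mp, hMp⟩ := CharInt.exists_isPModular_of_prime (q := p) hp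
  obtain ⟨Mr, hMr⟩ := CharInt.exists_isPModular_of_prime (q := r) hr.out
  haveI := hMp.2.1
  haveI := hMr.2.1
  have hord : orderOf (x * y) = p * r := by
    rw [hc.orderOf_mul_eq_mul_orderOf_of_coprime, hx, hy]
    rw [hx, hy]; exact (Nat.coprime_primes hp hr.out).2 hrp.symm
  have hsp : ¬ IsPRegular p (x * y) := fun h => h (hord ▸ dvd_mul_right p r)
  have hsr : ¬ IsPRegular r (x * y) := fun h => h (hord ▸ dvd_mul_left r p)
  have hj0 : 0 < j := by omega
  have hvp : ∀ χ : IrrCharacter G, Char.degree χ = q → χ.1 (x * y) = 0 := fun χ h => by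
    refine Blocks.apply_eq_zero_of_defect_zero hMp.2.2 χ ?_ hsp
    rw [h]
    exact factorization_eq_of_mul (by omega) (by positivity) (by rw [hG', mul_assoc]) hpj
  have hvr : ∀ χ : IrrCharacter G, ∀ b, b ≠ 0 → ¬ r ∣ b → Char.degree χ * b = q * (j + 1) * (2 * j) →
      χ.1 (x * y) = 0 := fun χ b hb hrb h => by
    refine Blocks.apply_eq_zero_of_defect_zero hMr.2.2 χ ?_ hsr
    exact factorization_eq_of_mul (Char.degree_pos χ).ne' hb (h.trans hG'.symm) hrb
  -- a common divisor of the degrees of the other non-vanishing characters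
  obtain ⟨K, hK2, hK⟩ : ∃ K : ℕ, 2 ≤ K ∧ ∀ χ : IrrCharacter G, χ ≠ Char.trivialChar G →
      χ.1 (x * y) ≠ 0 → K ∣ Char.degree χ := by
    by_cases hrj : r ∣ j + 1 ∧ r ≠ 2
    · obtain ⟨hrj, hr2⟩ := hrj
      have hr2j : ¬ r ∣ 2 * j := fun h => by
        rcases hr.out.dvd_mul.1 h with h1 | h1
        · exact hr2 ((Nat.prime_dvd_prime_iff_eq hr.out Nat.prime_two).1 h1)
        · exact hr.out.not_dvd_one ((Nat.dvd_add_right h1).1 hrj)
      refine ⟨2 * j, by omega, fun χ hne h0 => ?_⟩
      rcases hdeg χ with h | h | h | h | h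
      · exact absurd (hlin χ h) hne
      · exact absurd (hvp χ h) h0
      · refine absurd (hvr χ (q * j) (by positivity) (fun e => ?_) ?_) h0
        · rcases hr.out.dvd_mul.1 e with h1 | h1
          · exact hrq h1
          · exact hr2j (h1.mul_left 2)
        · rw [h, show q + 1 = 2 * (j + 1) by omega]; ring
      · rw [h]; exact dvd_of_eq (by omega)
      · refine absurd (hvr χ (q * (2 * j)) (by positivity) (fun e => ?_) ?_) h0
        · rcases hr.out.dvd_mul.1 e with h1 | h1
          · exact hrq h1
          · exact hr2j h1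
        · rw [h, show (q + 1) / 2 = j + 1 by omega]; ring
    · have hrj1 : ¬ r ∣ j + 1 := fun h => hrj ⟨h, fun e => by subst e; omega⟩
      refine ⟨j + 1, by omega, fun χ hne h0 => ?_⟩
      rcases hdeg χ with h | h | h | h | h
      · exact absurd (hlin χ h) hne
      · exact absurd (hvp χ h) h0
      · rw [h]; exact ⟨2, by omega⟩
      · refine absurd (hvr χ (q * (j + 1)) (by positivity) (fun e => ?_) ?_) h0
        · rcases hr.out.dvd_mul.1 e with h1 | h1
          · exact hrq h1
          · exact hrj1 h1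
        · rw [h, show q - 1 = 2 * j by omega]; ring
      · rw [h]; exact dvd_of_eq (by omega)
  have hsum := Char.sum_irr_degree_mul (x * y)
  rw [if_neg (fun h => by
      rw [h, orderOf_one] at hord
      exact hp.one_lt.ne' (Nat.eq_one_of_mul_eq_one_right hord.symm)),
    ← add_sum_erase _ _ (mem_univ (Char.trivialChar G)), Char.trivialChar_apply,
    Char.trivialChar_apply, one_mul] at hsum
  -- `-1 = K S` with `S` an algebraic integer
  set S : ℂ := ∑ χ ∈ univ.erase (Char.trivialChar G),
    ((Char.degree χ / K : ℕ) : ℂ) * χ.1 (x * y) with hS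
  have hSint : IsIntegral ℤ S := by
    refine IsIntegral.sum _ fun χ _ => ?_
    exact (isIntegral_natCast _).mul (CharInt.isIntegral_char (Char.irr_isCharacter χ) _)
  have hKS : (K : ℂ) * S = -1 := by
    rw [hS, mul_sum]
    rw [show (-1 : ℂ) = ∑ χ ∈ univ.erase (Char.trivialChar G), χ.1 1 * χ.1 (x * y) by
      linear_combination -hsum]
    refine sum_congr rfl fun χ hχ => ?_
    by_cases h0 : χ.1 (x * y) = 0
    · simp [h0]
    · rw [← mul_assoc, ← Nat.cast_mul, Nat.mul_div_cancel' (hK χ (ne_of_mem_erase hχ) h0),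
        Char.apply_one_eq_degree]
  obtain ⟨z, hz⟩ := Char.exists_int_of_isIntegral_mul (c := (K : ℤ)) (N := -1) hSint (by omega)
    (by push_cast; exact hKS)
  have h1 : (K : ℤ) * z = -1 := by exact_mod_cast (hz ▸ hKS : (K : ℂ) * (z : ℂ) = -1)
  have := Int.natAbs_mul (K : ℤ) z
  rw [h1] at this
  simp at this
  exact absurd (Nat.eq_one_of_mul_eq_one_right this.symm) (by omega)

/-- A group with the character degrees of `PSL₂(p²)` is `PSL₂(p²)`. -/
theorem psl_of_degrees (hp2 : p ≠ 2) (hG : 2 * Nat.card G = p ^ 2 * ((p ^ 2) ^ 2 - 1))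
    (hlin : ∀ χ : IrrCharacter G, Char.degree χ = 1 → χ = Char.trivialChar G)
    (hdeg : ∀ χ : IrrCharacter G, Char.degree χ = 1 ∨ Char.degree χ = p ^ 2 ∨
      Char.degree χ = p ^ 2 + 1 ∨ Char.degree χ = p ^ 2 - 1 ∨ Char.degree χ = (p ^ 2 + 1) / 2)
    (hst : ∃ χ : IrrCharacter G, Char.degree χ = p ^ 2)
    {F : Type*} [Field F] [Fintype F] (hF : Fintype.card F = p ^ 2) :
    Nonempty (G ≃* Matrix.ProjectiveSpecialLinearGroup (Fin 2) F) := by
  classical
  letI := Fintype.ofFinite G
  have hp : p.Prime := Fact.out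
  have hmix := fun {x y : G} (hx : orderOf x = p) {r : ℕ} (hr : r.Prime) (hrp : r ≠ p)
    (hy : orderOf y = r) (hc : Commute x y) =>
      haveI := Fact.mk hr
      no_mixed hp2 hG hlin hdeg hx hrp hy hc
  obtain ⟨j, hj⟩ := (hp.odd_of_ne_two hp2).pow (n := 2)
  obtain ⟨q, hqdef⟩ : ∃ q, q = p ^ 2 := ⟨_, rfl⟩
  rw [← hqdef] at hG hdeg hj hst hF
  have hp3 : 3 ≤ p := by have := hp.two_le; omega
  have hq9 : 9 ≤ q := by rw [hqdef]; exact le_trans (by norm_num) (Nat.pow_le_pow_left hp3 2)
  have hsq : q ^ 2 - 1 = (q + 1) * (q - 1) := by rw [← Nat.sq_sub_sq, one_pow]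
  rw [hsq] at hG
  have hG' : Nat.card G = q * (2 * j * (j + 1)) := by
    apply Nat.eq_of_mul_eq_mul_left two_pos
    rw [hG, show q + 1 = 2 * (j + 1) by omega, show q - 1 = 2 * j by omega]; ring
  have hpj : ¬ p ∣ 2 * j * (j + 1) := by
    intro h
    have hpq : p ∣ q := hqdef ▸ dvd_pow_self p two_ne_zero
    rcases hp.dvd_mul.1 h with h1 | h1
    · have h2 : p ∣ q - 1 := by rw [show q - 1 = 2 * j by omega]; exact h1
      have h3 := Nat.dvd_sub hpq h2
      rw [show q - (q - 1) = 1 by omega] at h3
      exact hp.not_dvd_one h3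
    · have h2 : p ∣ q + 1 := by rw [show q + 1 = 2 * (j + 1) by omega]; exact h1.mul_left 2
      exact hp.not_dvd_one ((Nat.dvd_add_right hpq).1 h2)
  -- Sylow subgroups
  have hScard : ∀ S : Sylow p G, Nat.card S = q := by
    intro S
    rw [Sylow.card_eq_multiplicity, hG', hqdef,
      Nat.factorization_mul (by positivity) (by rintro h; exact hpj (by rw [h]; exact dvd_zero p))]
    simp [hp.factorization_pow, Nat.factorization_eq_zero_of_not_dvd hpj]
  have hScomm : ∀ S : Sylow p G, ∀ a ∈ (S : Subgroup G), ∀ b ∈ (S : Subgroup G), a * b = b * a := by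
    intro S a ha b hb
    have h : Nat.card (S : Subgroup G) = p ^ 2 := (hScard S).trans hqdef
    exact congrArg Subtype.val ((IsPGroup.isMulCommutative_of_card_eq_prime_sq h).is_comm.comm ⟨a, ha⟩ ⟨b, hb⟩)
  have hcent : ∀ S : Sylow p G, ∀ u ∈ (S : Subgroup G), u ≠ 1 →
      Subgroup.centralizer ({u} : Set G) = (S : Subgroup G) := by
    intro S u hu hu1
    have hle : (S : Subgroup G) ≤ Subgroup.centralizer ({u} : Set G) := fun s hs =>
      Subgroup.mem_centralizer_singleton_iff.2 (hScomm S s hs u hu)
    obtain ⟨i, hi⟩ := S.2 ⟨u, hu⟩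
    have hi' : u ^ p ^ i = 1 := congrArg Subtype.val hi
    obtain ⟨k, -, hk⟩ := (Nat.dvd_prime_pow hp).1 (orderOf_dvd_of_pow_eq_one hi')
    obtain ⟨k, rfl⟩ : ∃ k', k = k' + 1 := ⟨k - 1, by
      rcases k with _ | k
      · exact absurd (orderOf_eq_one_iff.1 (by rw [hk, pow_zero])) hu1
      · rfl⟩
    have hu' : orderOf (u ^ p ^ k) = p := by
      rw [orderOf_pow_of_dvd (pow_ne_zero _ hp.ne_zero) (hk ▸ pow_dvd_pow p (Nat.le_succ k)), hk,
        pow_succ, Nat.mul_div_cancel_left _ (pow_pos hp.pos _)]
    have hC : IsPGroup p (Subgroup.centralizer ({u} : Set G)) := by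
      intro c
      obtain ⟨i, b, hb, he⟩ := Nat.exists_eq_pow_mul_and_not_dvd (orderOf_pos (c : G)).ne' p hp.ne_one
      refine ⟨i, ?_⟩
      have hb0 : orderOf ((c : G) ^ p ^ i) = b := by
        rw [orderOf_pow_of_dvd (pow_ne_zero _ hp.ne_zero) (he ▸ dvd_mul_right _ _), he,
          Nat.mul_div_cancel_left _ (pow_pos hp.pos _)]
      refine Subtype.ext ?_
      rw [SubmonoidClass.coe_pow]
      refine orderOf_eq_one_iff.1 (hb0.trans ?_)
      by_contra hb1
      obtain ⟨r, hr, hrb⟩ := Nat.exists_prime_and_dvd hb1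
      have hcomm : Commute (u ^ p ^ k) (((c : G) ^ p ^ i) ^ (b / r)) :=
        ((show Commute u (c : G) from
          (Subgroup.mem_centralizer_singleton_iff.1 c.2).symm).pow_pow _ _).pow_right _
      refine hmix hu' hr (fun e => hb (e ▸ hrb)) ?_ hcomm
      rw [orderOf_pow_of_dvd (by
          intro h
          rcases Nat.div_eq_zero_iff.1 h with h | h
          · exact hr.ne_zero h
          · exact absurd h (not_lt.2 (Nat.le_of_dvd (Nat.pos_of_ne_zero
              fun e => hb (by rw [e]; exact dvd_zero p)) hrb))) (by rw [hb0]; exact Nat.div_dvd_of_dvd hrb),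
        hb0, Nat.div_div_self hrb (fun e => hb (by rw [e]; exact dvd_zero p))]
    obtain ⟨T, hT⟩ := hC.exists_le_sylow
    exact (Subgroup.eq_of_le_of_card_ge hle
      ((Subgroup.card_le_of_le hT).trans (le_of_eq ((hScard T).trans (hScard S).symm)))).symm
  have hc : ∀ S : Sylow p G, ∀ u ∈ (S : Subgroup G), u ≠ 1 → ∀ g : G, g * u = u * g →
      ∀ v ∈ (S : Subgroup G), g * v = v * g := fun S u hu hu1 g hg v hv =>
    hScomm S g (hcent S u hu hu1 ▸ Subgroup.mem_centralizer_singleton_iff.2 hg) v hv
  obtain ⟨P⟩ : Nonempty (Sylow p G) := inferInstance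
  obtain ⟨u₀, hu₀, hu₀1⟩ : ∃ u ∈ (P : Subgroup G), u ≠ 1 := by
    refine (Subgroup.bot_or_exists_ne_one (P : Subgroup G)).resolve_left fun h => ?_
    have := hScard P
    change Nat.card (P : Subgroup G) = q at this
    rw [h, Subgroup.card_bot] at this; omega
  -- `n_p = q + 1`
  have hNcard := Subgroup.card_mul_index (Subgroup.normalizer ((P : Subgroup G) : Set G))
  obtain ⟨e, he⟩ : q ∣ Nat.card (Subgroup.normalizer ((P : Subgroup G) : Set G)) :=
    hScard P ▸ Subgroup.card_dvd_of_le Subgroup.le_normalizer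
  rw [show (Subgroup.normalizer ((P : Subgroup G) : Set G)).index = Nat.card (Sylow p G) from
    P.card_eq_index_normalizer.symm, he, hG', mul_assoc] at hNcard
  have hen : e * Nat.card (Sylow p G) = 2 * j * (j + 1) := Nat.eq_of_mul_eq_mul_left (by omega) hNcard
  have hne1 : Nat.card (Sylow p G) ≠ 1 := by
    intro h1
    haveI : Subsingleton (Sylow p G) := (Nat.card_eq_one_iff_unique.1 h1).1
    haveI : (P : Subgroup G).Normal := P.normal_of_subsingleton
    obtain ⟨χ, hχ⟩ := hst
    have h2 := Char.degree_dvd_index_of_comm (P : Subgroup G) (hScomm P) χ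
    rw [hχ] at h2
    exact P.not_dvd_index ((hqdef ▸ dvd_pow_self p two_ne_zero : p ∣ q).trans h2)
  have hmodq : q ∣ Nat.card {S : Sylow p G // S ≠ P} := by
    letI : MulAction (P : Subgroup G) {S : Sylow p G // S ≠ P} :=
      { smul := fun u S => ⟨(u : G) • S.1, fun h => S.2 (by
          have h2 : (u : G)⁻¹ • P = P :=
            SmallSimple.smul_sylow_eq_iff.2 (Subgroup.le_normalizer (inv_mem u.2))
          calc S.1 = (u : G)⁻¹ • (u : G) • S.1 := (inv_smul_smul _ _).symm
            _ = P := by rw [h, h2])⟩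
        one_smul := fun S => Subtype.ext (one_smul G S.1)
        mul_smul := fun a b S => Subtype.ext (mul_smul (a : G) (b : G) S.1) }
    have h : ∀ S : {S : Sylow p G // S ≠ P}, MulAction.stabilizer (P : Subgroup G) S = ⊥ := fun S => by
      rw [Subgroup.eq_bot_iff_forall]
      intro u hu
      by_contra hu1
      exact S.2 (PSL2.Recog.fix_only P (hc P) u.2 (fun h => hu1 (Subtype.ext h))
        (congrArg Subtype.val hu))
    rw [Nat.card_congr (MulAction.selfEquivOrbitsQuotientProd h), Nat.card_prod]
    exact (dvd_of_eq (hScard P).symm).trans (dvd_mul_left _ _)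
  have hn : Nat.card (Sylow p G) = q + 1 := by
    letI := Fintype.ofFinite (Sylow p G)
    rw [Nat.card_eq_fintype_card, Fintype.card_subtype_compl, Fintype.card_subtype_eq,
      ← Nat.card_eq_fintype_card] at hmodq
    obtain ⟨i, hi⟩ := hmodq
    have hpos : 0 < Nat.card (Sylow p G) := Nat.card_pos
    have hi0 : i ≠ 0 := by rintro rfl; omega
    have hn' : Nat.card (Sylow p G) = q * i + 1 := by omega
    rw [hn'] at hen ⊢
    have hle : e * (q + 1) ≤ e * (q * i + 1) :=
      Nat.mul_le_mul_left e (by nlinarith [Nat.pos_of_ne_zero hi0])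
    rw [hen, show q + 1 = 2 * (j + 1) by omega, ← mul_assoc] at hle
    have hle' : e * 2 ≤ 2 * j := Nat.le_of_mul_le_mul_right hle (by omega)
    -- `2 e + 1 ≡ 0 (mod q)`
    have hz : ((2 * (e * (q * i + 1)) + 1 : ℕ) : ZMod q) = 0 := by
      rw [hen, show 2 * (2 * j * (j + 1)) + 1 = q * q by rw [hj]; ring, Nat.cast_mul,
        ZMod.natCast_self, zero_mul]
    have hz' : ((2 * e + 1 : ℕ) : ZMod q) = 0 := by
      rw [← hz]; push_cast; rw [ZMod.natCast_self]; ring
    rw [ZMod.natCast_eq_zero_iff] at hz'
    have he' : e = j := by have := Nat.le_of_dvd (by omega) hz'; omega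
    subst he'
    have h2 : q * i + 1 = 2 * (e + 1) :=
      Nat.eq_of_mul_eq_mul_left (show 0 < e by omega) (by rw [hen]; ring)
    omega
  have hej : e = j := by
    rw [hn, show q + 1 = 2 * (j + 1) by omega, show 2 * j * (j + 1) = j * (2 * (j + 1)) by ring] at hen
    exact Nat.eq_of_mul_eq_mul_right (by omega) hen
  rw [hej] at he
  -- simplicity
  haveI : IsSimpleGroup G := by
    haveI : Nontrivial G := ⟨⟨u₀, 1, hu₀1⟩⟩
    constructor
    intro N hN
    haveI := hN
    by_contra hcon
    push Not at hcon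
    obtain ⟨hNb, hNt⟩ := hcon
    by_cases hpN : p ∣ Nat.card N
    · -- all Sylow subgroups lie in `N`
      obtain ⟨x, hx⟩ := exists_prime_orderOf_dvd_card' p hpN
      have hx' : orderOf (x : G) = p := by rw [Subgroup.orderOf_coe, hx]
      have hxp : IsPGroup p (Subgroup.zpowers (x : G)) :=
        IsPGroup.of_card (n := 1) (by rw [Nat.card_zpowers, hx', pow_one])
      obtain ⟨S, hS⟩ := hxp.exists_le_sylow
      obtain ⟨g, rfl⟩ := exists_smul_eq G P S
      have hxS := hS (Subgroup.mem_zpowers (x : G))
      rw [Sylow.coe_subgroup_smul, Subgroup.mem_pointwise_smul_iff_inv_smul_mem] at hxS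
      have hyP : g⁻¹ * (x : G) * g ∈ (P : Subgroup G) := by simpa [MulAut.smul_def] using hxS
      have hyN : g⁻¹ * (x : G) * g ∈ N := by simpa using hN.conj_mem _ x.2 g⁻¹
      have hy1 : g⁻¹ * (x : G) * g ≠ 1 := fun h => hp.one_lt.ne' (by
        have : (x : G) = g * 1 * g⁻¹ := by rw [← h]; group
        rw [← hx', this]; simp)
      have hPN : (P : Subgroup G) ≤ N := by
        by_contra hPN
        -- `N ∩ P` has order `p` and `N_G(P)/P` acts freely on it
        set D : Subgroup G := N ⊓ (P : Subgroup G) with hD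
        set y := g⁻¹ * (x : G) * g with hy
        have hyD : y ∈ D := ⟨hyN, hyP⟩
        have hDlt : Nat.card D < q := by
          refine lt_of_le_of_ne ((Subgroup.card_le_of_le inf_le_right).trans (le_of_eq (hScard P)))
            fun h => hPN ?_
          rw [← Subgroup.eq_of_le_of_card_ge (inf_le_right : D ≤ (P : Subgroup G))
            (le_of_eq ((hScard P).trans h.symm))]
          exact inf_le_left
        have hDp : Nat.card D ≤ p := by
          obtain ⟨k, hk, hk'⟩ := (Nat.dvd_prime_pow hp).1
            ((Subgroup.card_dvd_of_le (inf_le_right : D ≤ (P : Subgroup G))).trans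
              (dvd_of_eq ((hScard P).trans hqdef)))
          rw [hk'] at hDlt ⊢
          rcases k with _ | _ | _ | k
          · rw [pow_zero]; omega
          · rw [pow_one]
          · rw [hqdef] at hDlt; exact absurd hDlt (lt_irrefl _)
          · omega
        let f : ↥(Subgroup.normalizer ((P : Subgroup G) : Set G)) ⧸
            (P : Subgroup G).subgroupOf (Subgroup.normalizer ((P : Subgroup G) : Set G)) →
            {z : D // z ≠ 1} := fun a => Quotient.liftOn' a
          (fun n => ⟨⟨(n : G) * y * (n : G)⁻¹, hN.conj_mem _ hyD.1 n,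
              (Subgroup.mem_normalizer_iff.1 n.2 y).1 hyD.2⟩,
            fun h => hy1 (conj_eq_one_iff.1 (congrArg Subtype.val h))⟩)
          (fun a b hab => by
            rw [QuotientGroup.leftRel_apply, Subgroup.mem_subgroupOf] at hab
            have h1 := hScomm P _ hab _ hyD.2
            simp only [Subgroup.coe_mul, Subgroup.coe_inv] at h1
            refine Subtype.ext (Subtype.ext ?_)
            show (a : G) * y * (a : G)⁻¹ = b * y * (b : G)⁻¹
            calc (a : G) * y * (a : G)⁻¹ = a * (y * ((a : G)⁻¹ * b)) * (b : G)⁻¹ := by group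
              _ = a * (((a : G)⁻¹ * b) * y) * (b : G)⁻¹ := by rw [h1]
              _ = _ := by group)
        have hf : Function.Injective f := by
          intro a b
          induction a using Quotient.inductionOn' with | h a => ?_
          induction b using Quotient.inductionOn' with | h b => ?_
          intro h
          have h' : (a : G) * y * (a : G)⁻¹ = b * y * (b : G)⁻¹ :=
            congrArg (fun z : {z : D // z ≠ 1} => ((z.1 : D) : G)) h
          refine Quotient.sound' ?_
          rw [QuotientGroup.leftRel_apply, Subgroup.mem_subgroupOf]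
          simp only [Subgroup.coe_mul, Subgroup.coe_inv]
          refine (hcent P y hyP hy1).le (Subgroup.mem_centralizer_singleton_iff.2 ?_)
          calc (a : G)⁻¹ * b * y = (a : G)⁻¹ * (b * y * (b : G)⁻¹) * b := by group
            _ = (a : G)⁻¹ * (a * y * (a : G)⁻¹) * b := by rw [h']
            _ = y * ((a : G)⁻¹ * b) := by group
        have hle := Nat.card_le_card_of_injective f hf
        letI := Fintype.ofFinite D
        rw [← Subgroup.index_eq_card, Nat.card_eq_fintype_card (α := {z : D // z ≠ 1}),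
          Fintype.card_subtype_compl, Fintype.card_subtype_eq, ← Nat.card_eq_fintype_card] at hle
        have hidx := Subgroup.card_mul_index
          ((P : Subgroup G).subgroupOf (Subgroup.normalizer ((P : Subgroup G) : Set G)))
        rw [Nat.card_congr (Subgroup.subgroupOfEquivOfLe Subgroup.le_normalizer).toEquiv, he] at hidx
        have hidx' : ((P : Subgroup G).subgroupOf (Subgroup.normalizer ((P : Subgroup G) : Set G))).index = j := by
          refine Nat.eq_of_mul_eq_mul_left (show 0 < q by omega) ?_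
          rw [← hidx]; exact congrArg (· * _) (hScard P).symm
        have : 3 * p ≤ q := by rw [hqdef, pow_two]; exact Nat.mul_le_mul_right p hp3
        omega
      -- the quotient has only linear characters
      have hdvd : q ∣ Nat.card N := hScard P ▸ Subgroup.card_dvd_of_le hPN
      have hFr : N ⊔ Subgroup.normalizer ((P : Subgroup G) : Set G) = ⊤ := by
        rw [sup_comm]; exact Sylow.normalizer_sup_eq_top' P hPN
      have hQle : Nat.card (G ⧸ N) ≤ j := by
        have h1 : N.index = N.relIndex (Subgroup.normalizer ((P : Subgroup G) : Set G)) := by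
          have := Subgroup.relIndex_mul_index (le_top : N ≤ (⊤ : Subgroup G))
          rw [← Subgroup.relIndex_top_right, ← hFr, sup_comm, Subgroup.relIndex_sup_right]
        rw [← Subgroup.index_eq_card, h1]
        refine Nat.le_of_dvd (by omega) ?_
        have h2 := Subgroup.card_mul_index
          (N.subgroupOf (Subgroup.normalizer ((P : Subgroup G) : Set G)))
        rw [he] at h2
        have h3 : q ∣ Nat.card (N.subgroupOf (Subgroup.normalizer ((P : Subgroup G) : Set G))) :=
          hScard P ▸ (Nat.card_congr (Subgroup.subgroupOfEquivOfLe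
            (Subgroup.le_normalizer (H := (P : Subgroup G)))).toEquiv).symm ▸
            Subgroup.card_dvd_of_le (fun z hz => hPN hz)
        obtain ⟨i, hi⟩ := h3
        rw [hi, mul_assoc] at h2
        exact ⟨i, by rw [← Nat.eq_of_mul_eq_mul_left (by omega) h2, mul_comm]; rfl⟩
      letI := Fintype.ofFinite (G ⧸ N)
      have hall : ∀ ψ : IrrCharacter (G ⧸ N), Char.inflate N ψ = Char.trivialChar G := by
        intro ψ
        refine hlin _ ?_
        have hd : Char.degree (Char.inflate N ψ) = Char.degree ψ := by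
          have h1 := Char.apply_one_eq_degree (Char.inflate N ψ)
          rw [Char.inflate_apply, QuotientGroup.mk_one, Char.apply_one_eq_degree, Nat.cast_inj] at h1
          exact h1.symm
        have hle : Char.degree ψ ^ 2 ≤ Nat.card (G ⧸ N) := by
          rw [← Char.sum_degree_sq]
          exact single_le_sum (fun χ _ => Nat.zero_le (Char.degree χ ^ 2)) (mem_univ ψ)
        have := Nat.le_self_pow two_ne_zero (Char.degree ψ)
        rcases hdeg (Char.inflate N ψ) with h | h | h | h | h <;> rw [hd] at h ⊢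
        · exact h
        all_goals exfalso; omega
      have hone : ∀ ψ : IrrCharacter (G ⧸ N), ψ = Char.trivialChar (G ⧸ N) := by
        intro ψ
        refine Subtype.ext (funext fun a => ?_)
        induction a using QuotientGroup.induction_on with | H g => ?_
        have := congrArg (fun χ : IrrCharacter G => χ.1 g) (hall ψ)
        simpa [Char.trivialChar_apply] using this
      have hcard1 : Nat.card (G ⧸ N) = 1 := by
        rw [← Char.sum_degree_sq, sum_eq_single (Char.trivialChar (G ⧸ N)) (fun ψ _ h => absurd (hone ψ) h)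
          (fun h => absurd (mem_univ _) h)]
        have h1 := Char.apply_one_eq_degree (Char.trivialChar (G ⧸ N))
        rw [Char.trivialChar_apply] at h1
        rw [show Char.degree (Char.trivialChar (G ⧸ N)) = 1 by exact_mod_cast h1.symm, one_pow]
      exact hNt (Subgroup.index_eq_one.1 (by rw [Subgroup.index_eq_card, hcard1]))
    · -- `N` is regular on the Sylow subgroups and `P` is transitive on it
      have hfree : ∀ S : Sylow p G, ∀ a ∈ N, a • S = S → a = 1 := by
        intro S a ha haS
        obtain ⟨s, hs, hs1⟩ : ∃ s ∈ (S : Subgroup G), s ≠ 1 := by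
          refine (Subgroup.bot_or_exists_ne_one (S : Subgroup G)).resolve_left fun h => ?_
          have := hScard S
          change Nat.card (S : Subgroup G) = q at this
          rw [h, Subgroup.card_bot] at this; omega
        have hNS : ∀ z ∈ N, z ∈ (S : Subgroup G) → z = 1 := by
          intro z hzN hzS
          by_contra hz1
          obtain ⟨i, hi⟩ := S.2 ⟨z, hzS⟩
          obtain ⟨k, -, hk⟩ := (Nat.dvd_prime_pow hp).1
            (orderOf_dvd_of_pow_eq_one (congrArg Subtype.val hi : z ^ p ^ i = 1))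
          rcases Nat.eq_zero_or_pos k with rfl | hk0
          · exact hz1 (orderOf_eq_one_iff.1 (by rw [hk, pow_zero]))
          · exact hpN ((hk ▸ dvd_pow_self p hk0.ne').trans
              (by rw [← Subgroup.orderOf_mk z hzN]; exact orderOf_dvd_natCard _))
        have haN := SmallSimple.smul_sylow_eq_iff.1 haS
        have hcom : a * s * a⁻¹ * s⁻¹ = 1 := hNS _
          (by
            have := hN.conj_mem _ (inv_mem ha) s
            have h2 := mul_mem ha this
            simpa [mul_assoc] using h2)
          (mul_mem ((Subgroup.mem_normalizer_iff.1 haN s).1 hs) (inv_mem hs))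
        refine hNS a ha (hcent S s hs hs1 ▸ Subgroup.mem_centralizer_singleton_iff.2 ?_)
        rw [mul_inv_eq_one, mul_inv_eq_iff_eq_mul] at hcom
        exact hcom
      have hNle : Nat.card N ≤ q + 1 := by
        rw [← hn]
        refine Nat.card_le_card_of_injective (fun a : N => (a : G) • P) fun a b h => ?_
        have := hfree P ((b : G)⁻¹ * a) (mul_mem (inv_mem b.2) a.2)
          (by rw [mul_smul]; exact inv_smul_eq_iff.2 h)
        exact Subtype.ext (inv_mul_eq_one.1 this).symm
      have hN1 : 1 < Nat.card N := (Subgroup.one_lt_card_iff_ne_bot N).2 hNb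
      have hfreeP : ∀ a ∈ N, a ≠ 1 → ∀ u ∈ (P : Subgroup G), u * a * u⁻¹ = a → u = 1 := by
        intro a ha ha1 u hu h
        by_contra hu1
        refine ha1 (hfree P a ha (SmallSimple.smul_sylow_eq_iff.2 (Subgroup.le_normalizer ?_)))
        rw [← hcent P u hu hu1, Subgroup.mem_centralizer_singleton_iff]
        exact (mul_inv_eq_iff_eq_mul.1 h).symm
      letI := Fintype.ofFinite N
      letI := Fintype.ofFinite (P : Subgroup G)
      have hsame : ∀ a b : N, a ≠ 1 → b ≠ 1 → ∃ u : G, u * (a : G) * u⁻¹ = b := by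
        intro a b ha hb
        have ha' : (a : G) ≠ 1 := fun h => ha (Subtype.ext h)
        let f : ↥(P : Subgroup G) → {z : N // z ≠ 1} := fun u =>
          ⟨⟨(u : G) * a * (u : G)⁻¹, hN.conj_mem _ a.2 _⟩,
            fun h => ha' (conj_eq_one_iff.1 (congrArg Subtype.val h))⟩
        have hf : Function.Injective f := by
          intro u v h
          have h' : (u : G) * a * (u : G)⁻¹ = (v : G) * a * (v : G)⁻¹ :=
            congrArg (fun z : {z : N // z ≠ 1} => ((z.1 : N) : G)) h
          have := hfreeP a a.2 ha' ((v : G)⁻¹ * u) (mul_mem (inv_mem v.2) u.2) (by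
            calc (v : G)⁻¹ * u * a * ((v : G)⁻¹ * u)⁻¹ = (v : G)⁻¹ * (u * a * (u : G)⁻¹) * v := by group
              _ = a := by rw [h']; group)
          exact Subtype.ext (inv_mul_eq_one.1 this).symm
        have hcard : Nat.card {z : N // z ≠ 1} ≤ Nat.card (P : Subgroup G) := by
          rw [show Nat.card (P : Subgroup G) = q from hScard P, Nat.card_eq_fintype_card,
            Fintype.card_subtype_compl, Fintype.card_subtype_eq, ← Nat.card_eq_fintype_card]
          omega
        obtain ⟨u, hu⟩ := (hf.bijective_of_nat_card_le hcard).2 ⟨b, hb⟩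
        exact ⟨u, congrArg (fun z : {z : N // z ≠ 1} => ((z.1 : N) : G)) hu⟩
      have hNq : Nat.card N = q + 1 := by
        have hq1 : q ≤ Nat.card N - 1 := by
          haveI : Nontrivial N := Finite.one_lt_card_iff_nontrivial.1 hN1
          obtain ⟨a, ha⟩ := exists_ne (1 : N)
          have ha' : (a : G) ≠ 1 := fun h => ha (Subtype.ext h)
          let f : ↥(P : Subgroup G) → {z : N // z ≠ 1} := fun u =>
            ⟨⟨(u : G) * a * (u : G)⁻¹, hN.conj_mem _ a.2 _⟩,
              fun h => ha' (conj_eq_one_iff.1 (congrArg Subtype.val h))⟩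
          have hf : Function.Injective f := by
            intro u v h
            have h' : (u : G) * a * (u : G)⁻¹ = (v : G) * a * (v : G)⁻¹ :=
              congrArg (fun z : {z : N // z ≠ 1} => ((z.1 : N) : G)) h
            have := hfreeP a a.2 ha' ((v : G)⁻¹ * u) (mul_mem (inv_mem v.2) u.2) (by
              calc (v : G)⁻¹ * u * a * ((v : G)⁻¹ * u)⁻¹ = (v : G)⁻¹ * (u * a * (u : G)⁻¹) * v := by group
                _ = a := by rw [h']; group)
            exact Subtype.ext (inv_mul_eq_one.1 this).symm
          have := Nat.card_le_card_of_injective f hf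
          rw [show Nat.card (P : Subgroup G) = q from hScard P,
            Nat.card_eq_fintype_card (α := {z : N // z ≠ 1}), Fintype.card_subtype_compl,
            Fintype.card_subtype_eq, ← Nat.card_eq_fintype_card] at this
          exact this
        omega
      haveI := Fact.mk Nat.prime_two
      obtain ⟨a, ha⟩ := exists_prime_orderOf_dvd_card' 2 (show 2 ∣ Nat.card N by rw [hNq]; omega)
      obtain ⟨r, hr, hrj⟩ := Nat.exists_prime_and_dvd (show j + 1 ≠ 1 by omega)
      haveI := Fact.mk hr
      obtain ⟨b, hb⟩ := exists_prime_orderOf_dvd_card' r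
        (show r ∣ Nat.card N by rw [hNq, show q + 1 = 2 * (j + 1) by omega]; exact hrj.mul_left 2)
      obtain ⟨u, hu⟩ := hsame a b (fun h => by rw [h, orderOf_one] at ha; omega)
        (fun h => by rw [h, orderOf_one] at hb; exact hr.one_lt.ne hb)
      have hab : orderOf (b : G) = orderOf (a : G) := by
        rw [← hu, show u * (a : G) * u⁻¹ = MulAut.conj u (a : G) from rfl, MulEquiv.orderOf_eq]
      rw [Subgroup.orderOf_coe, Subgroup.orderOf_coe, ha, hb] at hab
      subst hab
      obtain ⟨i, rfl⟩ := hp.odd_of_ne_two hp2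
      obtain ⟨k, hk⟩ := hrj
      have : 2 * j + 1 = 4 * (i * i + i) + 1 := by rw [← hj, hqdef]; ring
      omega
  refine PSL2.Recog.psl_of_sylow P (by rw [hScard P]; omega) (by rw [hn, hScard P]) ?_ (hc P)
    (by rw [hF, hScard P])
  rw [if_neg hp2, hScard P, hsq, hG]

end Cfsg.Agent.DegreeRecog
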